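import Cfsg.Agent.Lib.Char.TwoDegrees
import Cfsg.Agent.Lib.Block.NormalDefect
import Cfsg.Agent.Lib.CharClifford.Gallagher
import Cfsg.Agent.S0187

/-!
# Degree bookkeeping for three degrees
-/

set_option autoImplicit false
set_option linter.unusedSectionVars false
set_option linter.style.haveILetI false

namespace Cfsg.Agent.Lib.Char.ThreeDeg

open Cfsg Cfsg.Agent.Lib Cfsg.Agent.Lib.Char
open Cfsg.Agent.Lib.Char.TwoDegPrime (lf lf_inj)
open scoped commutatorElement

universe u

variable {G : Type u} [Group G] [Fintype G]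

/-- A character over an irreducible of a normal subgroup, with the divisibilities. -/
theorem exists_over (N : Subgroup G) [N.Normal] [Fintype N] (θ : IrrCharacter N) :
    ∃ (χ : IrrCharacter G) (e : ℕ), classInner (fun n : N => (χ : G → ℂ) n) (θ : N → ℂ) ≠ 0 ∧
      charDegree (χ : G → ℂ) = e * (inertia N (θ : N → ℂ)).index * charDegree (θ : N → ℂ) ∧
      charDegree (χ : G → ℂ) ∣ N.index * charDegree (θ : N → ℂ) := by
  obtain ⟨χ, hχ⟩ := exists_irr_over N θ.2
  obtain ⟨e, he⟩ := classInner_natCast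
    (isCharacter_restrict (isCharacter_of_isIrr χ.2) N) (isCharacter_of_isIrr θ.2)
  refine ⟨χ, e, hχ, ?_, Block.NormalDefect.charDegree_dvd_index_mul N χ θ hχ⟩
  have h := clifford_degree N χ.2 θ.2 hχ
  rw [he, apply_one_eq_charDegree (isCharacter_of_isIrr χ.2),
    apply_one_eq_charDegree (isCharacter_of_isIrr θ.2)] at h
  exact_mod_cast h

/-- Degree prime to the index: the restriction is irreducible. -/
theorem restrict_of_coprime (N : Subgroup G) [N.Normal] [Fintype N] (χ : IrrCharacter G)
    (hco : (charDegree (χ : G → ℂ)).Coprime N.index) :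
    IsIrrCharacter N (fun n : N => (χ : G → ℂ) n) := by
  classical
  have hcN := isCharacter_restrict (isCharacter_of_isIrr χ.2) N
  obtain ⟨θ, hθ⟩ := exists_constituent hcN (fun h => irr_degree_ne_zero χ.2 (congrFun h 1))
  obtain ⟨e, he⟩ := classInner_natCast hcN (isCharacter_of_isIrr θ.2)
  have hdvd := Block.NormalDefect.charDegree_dvd_index_mul N χ θ hθ
  have h := clifford_degree N χ.2 θ.2 hθ
  rw [he, apply_one_eq_charDegree (isCharacter_of_isIrr χ.2),
    apply_one_eq_charDegree (isCharacter_of_isIrr θ.2)] at h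
  have h' : charDegree (χ : G → ℂ) =
      e * (inertia N (θ : N → ℂ)).index * charDegree (θ : N → ℂ) := by exact_mod_cast h
  have heq : charDegree (χ : G → ℂ) = charDegree (θ : N → ℂ) :=
    Nat.dvd_antisymm (hco.dvd_of_dvd_mul_left hdvd) (Dvd.intro_left _ h'.symm)
  have h1 : e * (inertia N (θ : N → ℂ)).index = 1 := by
    have hp := charDegree_pos θ.2
    have : 1 * charDegree (θ : N → ℂ) = e * (inertia N (θ : N → ℂ)).index * charDegree (θ : N → ℂ) := by
      rw [one_mul]; exact heq.symm.trans h'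
    exact (Nat.eq_of_mul_eq_mul_right hp this).symm
  obtain ⟨he1, hi1⟩ := mul_eq_one.1 h1
  have hc := clifford N χ.2 θ.2 hθ
  have hcard := card_orbit N (θ : N → ℂ) (irr_degree_ne_zero θ.2)
  rw [hi1] at hcard
  obtain ⟨φ, hφ⟩ := Finset.card_eq_one.1 hcard
  have hmem : (θ : N → ℂ) ∈ orbit N (θ : N → ℂ) := (mem_orbit N).2 ⟨1, conjChar_one N _⟩
  rw [hφ, Finset.mem_singleton] at hmem
  rw [hc, hφ, Finset.sum_singleton, he, he1, Nat.cast_one, one_smul, ← hmem]
  exact θ.2

/-- Twisting an irreducible with irreducible restriction by linear characters is injective. -/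
theorem twist_injective (N : Subgroup G) [N.Normal] [Fintype N] {χ : G → ℂ} (hχ : IsCharacter G χ)
    (hirr : IsIrrCharacter N (fun n : N => χ n)) {l l' : G →* ℂˣ} (hl : ∀ n ∈ N, l n = 1)
    (hl' : ∀ n ∈ N, l' n = 1) (h : lf l * χ = lf l' * χ) : l = l' := by
  have h1 : ((fun _ : N => (1 : ℂ)) * fun n : N => χ n) = fun n : N => χ n := by
    funext n; rw [Pi.mul_apply, one_mul]
  have hb := CharClifford.gallagher_bijOn N (φ := fun _ => 1) isIrrCharacter_one (fun g => rfl)
    (h1.symm ▸ hirr) hχ (fun n => rfl)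
  have hmem : ∀ m : G →* ℂˣ, (∀ n ∈ N, m n = 1) → lf m ∈ {β : G → ℂ | IsIrrCharacter G β ∧
      classInner (indFun N (fun _ : N => (1 : ℂ))) β ≠ 0} := by
    intro m hm
    refine ⟨isIrrCharacter_linear m, ?_⟩
    rw [classInner_indFun N (fun _ => (1 : ℂ)) (ψ := lf m) (isClassFunction_of_isIrr (isIrrCharacter_linear m)),
      show (fun n : N => lf m n) = fun _ => (1 : ℂ) from funext fun n => by
        simp [lf, hm n n.2]]
    rw [classInner_irr_self isIrrCharacter_one]
    exact one_ne_zero
  exact lf_inj (hb.2.1 (hmem l hl) (hmem l' hl') h)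

/-- Product with a character of the quotient, for irreducible restriction. -/
theorem gallagher_mul (N : Subgroup G) [N.Normal] [Fintype N] {χ : G → ℂ} (hχ : IsCharacter G χ)
    (hirr : IsIrrCharacter N (fun n : N => χ n)) {β : G → ℂ} (hβ : IsIrrCharacter G β)
    (hβN : ∀ n ∈ N, β n = β 1) : IsIrrCharacter G (β * χ) := by
  have h1 : ((fun _ : N => (1 : ℂ)) * fun n : N => χ n) = fun n : N => χ n := by
    funext n; rw [Pi.mul_apply, one_mul]
  have hb := CharClifford.gallagher_bijOn N (φ := fun _ => 1) isIrrCharacter_one (fun g => rfl)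
    (h1.symm ▸ hirr) hχ (fun n => rfl)
  refine (hb.1 (x := β) ⟨hβ, ?_⟩).1
  rw [classInner_indFun _ _ (isClassFunction_of_isIrr hβ),
    show (fun n : N => β n) = β 1 • fun _ : N => (1 : ℂ) from funext fun n => by
      rw [hβN n n.2, Pi.smul_apply, smul_eq_mul, mul_one],
    classInner_smul_right, classInner_irr_self isIrrCharacter_one, mul_one]
  exact (map_ne_zero _).2 (irr_degree_ne_zero hβ)

/-- Inflation preserves degrees. -/
theorem deg_inflate (N : Subgroup G) [N.Normal] (μ : IrrCharacter (G ⧸ N)) :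
    charDegree ((inflateEquiv N μ).1 : G → ℂ) = charDegree (μ : G ⧸ N → ℂ) := by
  refine charDegree_eq_of_apply_one ?_
  rw [inflateEquiv_apply, QuotientGroup.mk_one, apply_one_eq_charDegree (isCharacter_of_isIrr μ.2)]

/-- Derived series below a subgroup. -/
theorem derivedSeries_add_le {N : Subgroup G} {i : ℕ} (h : derivedSeries G i ≤ N) :
    ∀ j, derivedSeries G (i + j) ≤ (derivedSeries N j).map N.subtype
  | 0 => by
    rw [Nat.add_zero, derivedSeries_zero, ← MonoidHom.range_eq_map, Subgroup.range_subtype]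
    exact h
  | j + 1 => by
    rw [← Nat.add_assoc, derivedSeries_succ, derivedSeries_succ, Subgroup.map_commutator]
    exact Subgroup.commutator_mono (derivedSeries_add_le h j) (derivedSeries_add_le h j)

theorem derivedSeries_bot_of_le {N : Subgroup G} {i j : ℕ} (h : derivedSeries G i ≤ N)
    (hj : derivedSeries N j = ⊥) : derivedSeries G (i + j) = ⊥ :=
  eq_bot_iff.2 ((derivedSeries_add_le h j).trans (by rw [hj, Subgroup.map_bot]))

omit [Fintype G] in
/-- All degrees `1`: abelian. -/
theorem comm_of_all_one [Finite G] (h : ∀ χ : IrrCharacter G, charDegree (χ : G → ℂ) = 1) (x y : G) :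
    x * y = y * x :=
  (Cfsg.Agent.S0187.result).2 (fun χ => by
    rw [apply_one_eq_charDegree (isCharacter_of_isIrr χ.2), h χ, Nat.cast_one]) x y

omit [Fintype G] in
theorem derivedSeries_one_of_comm [Finite G] (h : ∀ x y : G, x * y = y * x) :
    derivedSeries G 1 = ⊥ := by
  rw [derivedSeries_one, commutator_def, eq_bot_iff, Subgroup.commutator_le]
  exact fun x _ y _ => by rw [Subgroup.mem_bot, commutatorElement_eq_one_iff_mul_comm]; exact h x y

omit [Fintype G] in
/-- At most two degrees: metabelian. -/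
theorem derivedSeries_two [Finite G] {m : ℕ}
    (h : ∀ χ : IrrCharacter G, charDegree (χ : G → ℂ) = 1 ∨ charDegree (χ : G → ℂ) = m) :
    derivedSeries G 2 = ⊥ := by
  by_cases hall : ∀ χ : IrrCharacter G, charDegree (χ : G → ℂ) = 1
  · exact le_bot_iff.1 ((derivedSeries_antitone G one_le_two).trans
      (derivedSeries_one_of_comm (comm_of_all_one hall)).le)
  push Not at hall
  obtain ⟨χ, hχ⟩ := hall
  have hm : charDegree (χ : G → ℂ) = m := (h χ).resolve_left hχ
  have hc := TwoDegrees.derived_comm h ⟨χ, hm⟩ (hm ▸ hχ)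
  rw [derivedSeries_succ, derivedSeries_one, eq_bot_iff, Subgroup.commutator_le]
  intro x hx y hy
  rw [Subgroup.mem_bot, commutatorElement_eq_one_iff_mul_comm]
  exact hc x hx y hy

end Cfsg.Agent.Lib.Char.ThreeDeg
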